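import Cfsg.Agent.Lib.BC77.RealBlock
import Cfsg.Agent.Lib.H80.ClassMult
import Cfsg.Agent.S4483

/-!
# Real characters in the principal 2-block

The characters of odd degree in the principal 2-block of a group of order divisible by 4 come in a
number divisible by 4, so one of them besides the trivial character is real; if there are few of
them and the centraliser of an involution is small, a real character has even degree.

Owner: helper77.
-/

set_option autoImplicit false
set_option linter.style.haveILetI false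

namespace Cfsg.Agent.Lib.BC77.SigmaFixed

open Cfsg.Agent.Lib.Characters Cfsg.Agent.Lib.Characters.Basic
open Cfsg.Agent.Lib.BrauerPairs.Bridge
open scoped ComplexConjugate

universe u

variable {M : Ideal Cfsg.AlgInt} {G : Type u} [Group G] [Finite G]

/-- The characters of odd degree in the principal block. -/
abbrev OddB0 (M : Ideal Cfsg.AlgInt) (G : Type u) [Group G] : Type u :=
  {χ : Cfsg.IrrCharacter G // χ ∈ Cfsg.principalBlock M G ∧ ¬ 2 ∣ Cfsg.charDegree (χ : G → ℂ)}

omit [Finite G] in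
theorem deg_eq (χ : Cfsg.IrrCharacter G) :
    (χ : G → ℂ) 1 = (Cfsg.charDegree (χ : G → ℂ) : ℂ) :=
  (H80.ClassMult.deg_spec χ).2

omit [Finite G] in
theorem deg_oneChar : Cfsg.charDegree (oneChar G : G → ℂ) = 1 := by
  simp [Cfsg.charDegree, oneChar_apply]

theorem oneChar_mem_oddB0 [M.IsMaximal] : oneChar G ∈ Cfsg.principalBlock M G ∧
    ¬ 2 ∣ Cfsg.charDegree (oneChar G : G → ℂ) :=
  ⟨Blocks.oneChar_mem_principalBlock, by rw [deg_oneChar]; decide⟩

theorem four_dvd_card_oddB0 (hM : Cfsg.IsPModular 2 M) (P : Sylow 2 G) (hP : 4 ∣ Nat.card P) :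
    4 ∣ Nat.card (OddB0 M G) := by
  classical
  haveI := hM.2.1
  haveI : Fact (Nat.Prime 2) := ⟨Nat.prime_two⟩
  letI := Fintype.ofFinite G
  letI := Fintype.ofFinite (P : Subgroup G)
  letI := Fintype.ofFinite (Cfsg.IrrCharacter G)
  set B := Finset.univ.filter fun χ : Cfsg.IrrCharacter G => χ ∈ Cfsg.principalBlock M G with hB
  choose n hn using fun χ : Cfsg.IrrCharacter G =>
    H80.ClassMult.exists_sum_subgroup χ (P : Subgroup G)
  let d : Cfsg.IrrCharacter G → ℕ := fun χ => Cfsg.charDegree (χ : G → ℂ)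
  have hd : ∀ χ : Cfsg.IrrCharacter G, (χ : G → ℂ) 1 = (d χ : ℂ) := deg_eq
  have hsing : ∀ v : (P : Subgroup G), v ≠ 1 →
      ∑ χ ∈ B, (χ : G → ℂ) 1 * conj ((χ : G → ℂ) v) = 0 := by
    intro v hv
    obtain ⟨i, hi⟩ := IsPGroup.iff_orderOf.1 P.isPGroup' v
    have h2 : 2 ∣ orderOf (v : G) := by
      rw [Subgroup.orderOf_coe, hi]
      refine dvd_pow_self 2 fun h0 => hv (orderOf_eq_one_iff.1 ?_)
      rw [hi, h0, pow_zero]
    rw [← Blocks.weak_orthogonality hM (Blocks.isPBlock_principalBlock (M := M) (G := G))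
      (x := (1 : G)) (by simp) h2, finsum_mem_eq_toFinset_sum]
    refine Finset.sum_congr ?_ fun χ _ => rfl
    ext χ
    simp [hB]
  have key : ((∑ χ ∈ B, d χ * d χ : ℕ) : ℂ) = ((Nat.card P * ∑ χ ∈ B, d χ * n χ : ℕ) : ℂ) := by
    calc ((∑ χ ∈ B, d χ * d χ : ℕ) : ℂ)
        = ∑ v : (P : Subgroup G), ∑ χ ∈ B, (χ : G → ℂ) 1 * conj ((χ : G → ℂ) v) := by
          rw [Fintype.sum_eq_single (1 : (P : Subgroup G)) hsing]
          push_cast
          refine Finset.sum_congr rfl fun χ _ => ?_
          rw [hd, map_natCast]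
      _ = _ := by
          rw [Finset.sum_comm, Nat.cast_mul, Nat.cast_sum, Finset.mul_sum]
          refine Finset.sum_congr rfl fun χ _ => ?_
          rw [← Finset.mul_sum, ← map_sum, hn χ, map_mul, map_natCast, map_natCast, hd]
          push_cast
          ring
  have h4 : 4 ∣ ∑ χ ∈ B, d χ * d χ := by
    rw [Nat.cast_inj.1 key]
    exact hP.mul_right _
  have hmod : (∑ χ ∈ B, d χ * d χ) % 4 = (B.filter fun χ => ¬ 2 ∣ d χ).card % 4 := by
    rw [Finset.sum_nat_mod, Finset.card_filter]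
    congr 1
    refine Finset.sum_congr rfl fun χ _ => ?_
    rw [Nat.mul_mod]
    have : d χ % 4 < 4 := Nat.mod_lt _ (by norm_num)
    split_ifs with h
    · rcases (show d χ % 4 = 0 ∨ d χ % 4 = 2 by omega) with e | e <;> rw [e]
    · rcases (show d χ % 4 = 1 ∨ d χ % 4 = 3 by omega) with e | e <;> rw [e]
  have hcard : Nat.card (OddB0 M G) = (B.filter fun χ => ¬ 2 ∣ d χ).card := by
    rw [Nat.card_eq_fintype_card, Fintype.card_subtype, hB, Finset.filter_filter]
  rw [hcard]
  omega

theorem conjChar_mem_principalBlock (hM : Cfsg.IsPModular 2 M) {χ : Cfsg.IrrCharacter G}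
    (h : χ ∈ Cfsg.principalBlock M G) : Linear.conjChar χ ∈ Cfsg.principalBlock M G := by
  haveI := hM.2.1
  have hB : Cfsg.IsPBlock M (Cfsg.principalBlock M G) := Blocks.isPBlock_principalBlock
  have hc : Linear.conjChar (oneChar G) = oneChar G :=
    Subtype.ext (funext fun g => by rw [Linear.conjChar_apply, oneChar_apply, map_one])
  rw [← toSet_blk hB, mem_toSet, RealBlock.blkOf_conjChar, blkOf_of_mem hB h,
    ← blkOf_of_mem hB Blocks.oneChar_mem_principalBlock, ← RealBlock.blkOf_conjChar, hc]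

theorem exists_real_principal (hM : Cfsg.IsPModular 2 M) (P : Sylow 2 G) (hP : 4 ∣ Nat.card P) :
    ∃ χ ∈ Cfsg.principalBlock M G, χ ≠ oneChar G ∧ ∀ g : G, ((χ : G → ℂ) g).im = 0 := by
  classical
  haveI := hM.2.1
  haveI : Fact (Nat.Prime 2) := ⟨Nat.prime_two⟩
  haveI := Fintype.ofFinite (OddB0 M G)
  have hdeg : ∀ χ : Cfsg.IrrCharacter G,
      Cfsg.charDegree (Linear.conjChar χ : G → ℂ) = Cfsg.charDegree (χ : G → ℂ) := fun χ => by
    simp [Cfsg.charDegree, Linear.conjChar_apply]
  let σ : Equiv.Perm (OddB0 M G) := Function.Involutive.toPerm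
    (fun χ => ⟨Linear.conjChar χ.1, conjChar_mem_principalBlock hM χ.2.1,
      by rw [hdeg]; exact χ.2.2⟩)
    (fun χ => Subtype.ext (Linear.conjChar_conjChar χ.1))
  have hdvd : 2 ∣ Fintype.card (OddB0 M G) := by
    rw [← Nat.card_eq_fintype_card]
    exact dvd_trans (by norm_num) (four_dvd_card_oddB0 hM P hP)
  obtain ⟨χ, hfix, hne⟩ := Equiv.Perm.exists_fixed_point_of_prime' (p := 2) (n := 1) hdvd (σ := σ)
    (by
      refine Equiv.ext fun χ => Subtype.ext ?_
      rw [pow_one, pow_two, Equiv.Perm.mul_apply]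
      exact Linear.conjChar_conjChar χ.1)
    (a := ⟨oneChar G, oneChar_mem_oddB0⟩)
    (Subtype.ext (Subtype.ext (funext fun g => by
      show (Linear.conjChar (oneChar G) : G → ℂ) g = _
      rw [Linear.conjChar_apply, oneChar_apply, map_one])))
  exact ⟨χ.1, χ.2.1, fun h => hne (Subtype.ext h),
    (Indicator.conjChar_eq_self_iff χ.1).1 (congrArg Subtype.val hfix)⟩

theorem exists_real_even (hM : Cfsg.IsPModular 2 M) {t : G} (ht : orderOf t = 2)
    (hconj : ∀ x : G, orderOf x = 2 → IsConj t x) {r : ℕ} (hr : Nat.card (OddB0 M G) ≤ r)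
    (hle : (r - 1) * Nat.card (Subgroup.centralizer ({t} : Set G)) ^ 2 ≤ Nat.card G) :
    ∃ χ : Cfsg.IrrCharacter G,
      Even (Cfsg.charDegree (χ : G → ℂ)) ∧ ∀ g : G, ((χ : G → ℂ) g).im = 0 := by
  classical
  letI := Fintype.ofFinite G
  letI := Fintype.ofFinite (Cfsg.IrrCharacter G)
  by_contra hno
  let d : Cfsg.IrrCharacter G → ℕ := fun χ => Cfsg.charDegree (χ : G → ℂ)
  have hd : ∀ χ : Cfsg.IrrCharacter G, (χ : G → ℂ) 1 = (d χ : ℂ) := deg_eq
  have hodd : ∀ χ : Cfsg.IrrCharacter G, (∀ g, ((χ : G → ℂ) g).im = 0) →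
      χ ∈ Cfsg.principalBlock M G ∧ ¬ 2 ∣ d χ := fun χ hreal => by
    have h : Odd (d χ) := Nat.not_even_iff_odd.1 fun he => hno ⟨χ, he, hreal⟩
    exact ⟨(S4483.result M hM).1 χ hreal h, Nat.two_dvd_ne_zero.mpr (Nat.odd_iff.mp h)⟩
  set R := Finset.univ.filter fun χ : Cfsg.IrrCharacter G =>
    ∀ g, ((χ : G → ℂ) g).im = 0 with hR
  have h1R : oneChar G ∈ R := by
    rw [hR, Finset.mem_filter]
    exact ⟨Finset.mem_univ _, fun g => by rw [oneChar_apply, Complex.one_im]⟩
  have hRr : (R.erase (oneChar G)).card ≤ r - 1 := by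
    rw [Finset.card_erase_of_mem h1R]
    refine Nat.sub_le_sub_right (le_trans ?_ hr) 1
    rw [hR, Nat.card_eq_fintype_card, Fintype.card_subtype]
    refine Finset.card_le_card fun χ hχ => ?_
    rw [Finset.mem_filter] at hχ ⊢
    exact ⟨Finset.mem_univ _, hodd χ hχ.2⟩
  have hsq : ∑ χ : Cfsg.IrrCharacter G, d χ * d χ = Nat.card G := by
    have h := Complete.sum_degree_mul_apply (G := G) 1
    rw [if_pos rfl] at h
    simp only [hd] at h
    exact_mod_cast h
  -- the involutions
  set I := Nat.card {y : G // IsConj t y} with hI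
  set C := Nat.card (Subgroup.centralizer ({t} : Set G))
  have hIC : I * C = Nat.card G := Complete.card_conjugates_mul_centralizer t
  have hsol : Nat.card {s : G // s * s = 1} = I + 1 := by
    rw [hI, Nat.card_eq_fintype_card, Nat.card_eq_fintype_card, Fintype.card_subtype,
      Fintype.card_subtype]
    have e : (Finset.univ.filter fun s : G => s * s = 1) =
        insert 1 (Finset.univ.filter fun y : G => IsConj t y) := by
      ext s
      simp only [Finset.mem_filter, Finset.mem_univ, true_and, Finset.mem_insert]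
      constructor
      · intro h
        by_cases h1 : s = 1
        · exact Or.inl h1
        · exact Or.inr (hconj s (orderOf_eq_prime (p := 2) (by rw [pow_two, h]) h1))
      · rintro (rfl | h)
        · exact one_mul 1
        · obtain ⟨c, rfl⟩ := isConj_iff.1 h
          have htt : t * t = 1 := by rw [← pow_two, ← ht, pow_orderOf_eq_one]
          calc c * t * c⁻¹ * (c * t * c⁻¹) = c * (t * t) * c⁻¹ := by group
            _ = 1 := by rw [htt]; group
    rw [e, Finset.card_insert_of_notMem]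
    simp only [Finset.mem_filter, Finset.mem_univ, true_and]
    intro h
    rw [isConj_one_left.1 h, orderOf_one] at ht
    norm_num at ht
  have hsum : I ≤ ∑ χ ∈ R.erase (oneChar G), d χ := by
    have h := congrArg Complex.re (Indicator.card_sq_eq_one (G := G))
    rw [finsum_eq_sum_of_fintype, Complex.re_sum, hsol, Complex.natCast_re] at h
    have hb : ((I + 1 : ℕ) : ℝ) ≤ ∑ χ ∈ R, (d χ : ℝ) := by
      rw [h, hR, Finset.sum_filter]
      refine Finset.sum_le_sum fun χ _ => ?_
      obtain ⟨hyes, hnon⟩ := Indicator.indicator_spec χ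
      rw [hd]
      split_ifs with hc
      · rcases hyes hc with e | e <;> rw [e] <;> simp
      · rw [hnon hc]; simp
    have hb' : I + 1 ≤ ∑ χ ∈ R, d χ := by exact_mod_cast hb
    have h1 : d (oneChar G) = 1 := deg_oneChar
    rw [← Finset.add_sum_erase R d h1R, h1] at hb'
    omega
  have hsq' : ∑ χ ∈ R.erase (oneChar G), d χ ^ 2 + 1 ≤ Nat.card G := by
    have h1 : d (oneChar G) = 1 := deg_oneChar
    rw [← hsq, ← Finset.add_sum_erase Finset.univ (fun χ => d χ * d χ)
      (Finset.mem_univ (oneChar G)), h1, add_comm]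
    simp only [pow_two, mul_one]
    exact Nat.add_le_add_left (Finset.sum_le_sum_of_subset
      (Finset.erase_subset_erase _ (Finset.subset_univ R))) 1
  have hCS : I ^ 2 ≤ (r - 1) * (Nat.card G - 1) :=
    calc I ^ 2 ≤ (∑ χ ∈ R.erase (oneChar G), d χ) ^ 2 := Nat.pow_le_pow_left hsum 2
      _ ≤ (R.erase (oneChar G)).card * ∑ χ ∈ R.erase (oneChar G), d χ ^ 2 :=
        sq_sum_le_card_mul_sum_sq
      _ ≤ (r - 1) * (Nat.card G - 1) := Nat.mul_le_mul hRr (by omega)
  have hfin : Nat.card G ^ 2 ≤ Nat.card G * (Nat.card G - 1) :=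
    calc Nat.card G ^ 2 = I ^ 2 * C ^ 2 := by rw [← mul_pow, hIC]
      _ ≤ (r - 1) * (Nat.card G - 1) * C ^ 2 := Nat.mul_le_mul_right _ hCS
      _ = (r - 1) * C ^ 2 * (Nat.card G - 1) := by ring
      _ ≤ _ := Nat.mul_le_mul_right _ hle
  rw [pow_two] at hfin
  have hpos : 0 < Nat.card G := Nat.card_pos
  have := Nat.le_of_mul_le_mul_left hfin hpos
  omega

end Cfsg.Agent.Lib.BC77.SigmaFixed
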