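import Cfsg.Agent.Lib.J1Order.Values
import Cfsg.Agent.Lib.BC77.SigmaFixed.Counting

/-!
# Odd degrees next to a centraliser `2 × A₅`

At most eight characters have odd degree when the centraliser of an involution is `2 × A₅`.

Owner: helper77.
-/

set_option autoImplicit false
set_option linter.style.haveILetI false

namespace Cfsg.Agent.Lib.BC77.SigmaFixed

open Cfsg.Agent.Lib.J1Order Cfsg.Agent.Lib.J1Order.Values Cfsg.Agent.Lib.J1Order.Eigen

universe u

variable {G : Type u} [Group G] [Finite G] {t : G}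

theorem card_odd_le_eight (M : Ideal Cfsg.AlgInt) (ht : orderOf t = 2)
    (e : ↥(Subgroup.centralizer ({t} : Set G)) ≃* Model) : Nat.card (OddB0 M G) ≤ 8 := by
  classical
  letI := Fintype.ofFinite G
  letI := Fintype.ofFinite (Cfsg.IrrCharacter G)
  choose a b b' c hco using exists_coeff e ht (G := G)
  have hA : ∀ χ : Cfsg.IrrCharacter G, (a χ : ℂ) = ∑ i, La i * (χ : G → ℂ) (el e i) := by
    intro χ
    obtain ⟨h0, h1, h2, h3⟩ := hco χ
    simp only [Fin.sum_univ_four, La, Matrix.cons_val, h0, h1, h2, h3]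
    linear_combination (-2 / 5 : ℂ) * ((b χ : ℂ) + b' χ) * beta_add
  have hsq : ∑ χ : Cfsg.IrrCharacter G, a χ * a χ = 8 := by
    apply Int.cast_injective (α := ℂ)
    push_cast
    simp only [hA]
    rw [orth e ht La La]
    simp [La]
    norm_num
  have hpar : ∀ χ : Cfsg.IrrCharacter G, ¬ 2 ∣ Cfsg.charDegree (χ : G → ℂ) → 1 ≤ a χ * a χ := by
    intro χ hodd
    letI := Fintype.ofFinite (Subgroup.zpowers t)
    obtain ⟨n, hn⟩ := H80.ClassMult.exists_sum_subgroup χ (Subgroup.zpowers t)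
    have hne : (1 : Subgroup.zpowers t) ≠ ⟨t, Subgroup.mem_zpowers t⟩ := fun h => by
      have h' : (1 : G) = t := congrArg Subtype.val h
      rw [← h', orderOf_one] at ht
      norm_num at ht
    rw [Fintype.sum_eq_add (1 : Subgroup.zpowers t) ⟨t, Subgroup.mem_zpowers t⟩ hne (fun x hx => by
      exfalso
      obtain ⟨i, hi⟩ := Subgroup.mem_zpowers_iff.1 x.2
      have htt : t ^ (2 : ℤ) = 1 := by rw [← Nat.cast_ofNat, zpow_natCast, ← ht, pow_orderOf_eq_one]
      rcases Int.even_or_odd' i with ⟨j, rfl | rfl⟩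
      · exact hx.1 (Subtype.ext (by rw [← hi, zpow_mul, htt, one_zpow]; rfl))
      · exact hx.2 (Subtype.ext (by rw [← hi, zpow_add, zpow_mul, htt, one_zpow, one_mul, zpow_one]))),
      OneMemClass.coe_one, deg_eq, Nat.card_zpowers, ht] at hn
    have hT : (χ : G → ℂ) t = ((a χ + 2 * b χ + 2 * b' χ + 4 * c χ : ℤ) : ℂ) := by
      rw [← el_zero e, (hco χ).1]; push_cast; ring
    have hn' : (Cfsg.charDegree (χ : G → ℂ) : ℤ) + (a χ + 2 * b χ + 2 * b' χ + 4 * c χ) =
        2 * (n : ℤ) := by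
      apply Int.cast_injective (α := ℂ)
      rw [hT] at hn
      push_cast at hn ⊢
      linear_combination hn
    have : a χ ≠ 0 := fun h => by rw [h] at hn'; omega
    nlinarith [mul_self_pos.2 this]
  have h : ((Finset.univ.filter fun χ : Cfsg.IrrCharacter G =>
      χ ∈ Cfsg.principalBlock M G ∧ ¬ 2 ∣ Cfsg.charDegree (χ : G → ℂ)).card : ℤ) ≤ 8 := by
    rw [← hsq, ← mul_one (Finset.card _ : ℤ), ← nsmul_eq_mul, ← Finset.sum_const]
    refine le_trans (Finset.sum_le_sum fun χ hχ => hpar χ (Finset.mem_filter.1 hχ).2.2) ?_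
    exact Finset.sum_le_sum_of_subset_of_nonneg (Finset.subset_univ _)
      fun χ _ _ => mul_self_nonneg _
  rw [Nat.card_eq_fintype_card, Fintype.card_subtype]
  exact_mod_cast h

end Cfsg.Agent.Lib.BC77.SigmaFixed
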