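import Cfsg.Agent.Lib.BC77.SigmaFixed.Counting
import Cfsg.Agent.Lib.BC77.SigmaFixed.Janko
import Cfsg.Agent.S4588
import Cfsg.Agent.Lib.ClassesSL.Arith
import Cfsg.Agent.Lib.JankoThompson.Psl
import Cfsg.Agent.Lib.SameOrderConj77.Main3914
import Cfsg.Agent.Lib.GorensteinWalter.Main
import Cfsg.Agent.Lib.BenderOne.Final
import Cfsg.Agent.Lib.Walter.Main

/-!
# The statement of row S4523 from the two theorems on groups of Janko–Ree type

By Walter's classification the Sylow 2-subgroups are elementary abelian, so the power map is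
inversion on the group and its fixed characters are the real ones.

Owner: helper77.
-/

set_option autoImplicit false
set_option linter.style.haveILetI false

namespace Cfsg.Agent.Lib.BC77.SigmaFixed

open Subgroup
open Cfsg.Agent.Lib.Characters

universe u

variable {S : Type u} [Group S] [Finite S]

theorem abelianSylow_of_one (P : Sylow 2 S) (hP : IsMulCommutative P) : Walter.AbelianSylow S :=
  fun Q => by
    haveI : Fact (Nat.Prime 2) := ⟨Nat.prime_two⟩
    exact ⟨⟨fun x y => (P.equiv Q).symm.injective (by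
      rw [map_mul, map_mul]; exact hP.1.comm _ _)⟩⟩

/-- With elementary abelian Sylow subgroups the power map is inversion. -/
theorem pow_eq_inv (hel : ∀ P : Sylow 2 S, Cfsg.IsElementaryAbelian 2 (P : Subgroup S)) (k : ℕ)
    (hk₁ : ∀ g : S, (∃ j : ℕ, orderOf g = 2 ^ j) → g ^ k = g)
    (hk₂ : ∀ g : S, Odd (orderOf g) → g ^ k = g⁻¹) (g : S) : g ^ k = g⁻¹ := by
  haveI : Fact (Nat.Prime 2) := ⟨Nat.prime_two⟩
  obtain ⟨a, b, hb, hab⟩ := Nat.exists_eq_two_pow_mul_odd (orderOf_pos g).ne'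
  have hga : orderOf (g ^ b) = 2 ^ a := by
    rw [orderOf_pow' _ hb.pos.ne', hab, Nat.gcd_eq_right (Dvd.intro_left _ rfl),
      Nat.mul_div_cancel _ hb.pos]
  have h2 : (g ^ b) ^ 2 = 1 := by
    obtain ⟨P, hP⟩ := (IsPGroup.of_card (p := 2) (n := a)
      (show Nat.card ↥(zpowers (g ^ b)) = 2 ^ a by rw [Nat.card_zpowers, hga])).exists_le_sylow
    exact (hel P).2 _ (hP (mem_zpowers _))
  have hodd : Odd (orderOf (g ^ 2)) :=
    hb.of_dvd_nat (orderOf_dvd_of_pow_eq_one (by rw [← pow_mul, mul_comm, pow_mul, h2]))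
  have e1 : (g ^ k * g) ^ 2 = 1 := by
    rw [((Commute.refl g).pow_left k).mul_pow, ← pow_mul, mul_comm k 2, pow_mul, hk₂ _ hodd,
      inv_mul_cancel]
  have e2 : (g ^ k * g) ^ b = 1 := by
    rw [((Commute.refl g).pow_left k).mul_pow, ← pow_mul, mul_comm k b, pow_mul, hk₁ _ ⟨a, hga⟩,
      ← pow_two, h2]
  obtain ⟨j, rfl⟩ := hb
  rw [pow_succ, pow_mul, e1, one_pow, one_mul] at e2
  exact eq_inv_of_mul_eq_one_left e2

theorem conj_of_torus (hL : Walter.KnownFacts S) {t x : S} (ht : orderOf t = 2)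
    (hx : orderOf x = 2) : IsConj t x := by
  haveI : Fact (Nat.Prime 2) := ⟨Nat.prime_two⟩
  have hle : ∀ y : S, orderOf y = 2 → ∃ P : Sylow 2 S, y ∈ (P : Subgroup S) := fun y hy => by
    obtain ⟨P, hP⟩ := (IsPGroup.of_card (p := 2) (n := 1)
      (show Nat.card ↥(zpowers y) = 2 ^ 1 by rw [Nat.card_zpowers, hy, pow_one])).exists_le_sylow
    exact ⟨P, hP (mem_zpowers y)⟩
  have hne : ∀ y : S, orderOf y = 2 → y ≠ 1 := fun y hy h => by
    rw [h, orderOf_one] at hy; norm_num at hy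
  obtain ⟨P, hP⟩ := hle t ht
  obtain ⟨Q, hQ⟩ := hle x hx
  obtain ⟨g, rfl⟩ := MulAction.exists_smul_eq S P Q
  rw [Sylow.coe_subgroup_smul, Subgroup.mem_pointwise_smul_iff_inv_smul_mem,
    ← MulAut.conj.map_inv, MulAut.smul_def, MulAut.conj_apply] at hQ
  obtain ⟨n, -, -, hn⟩ := hL.torus P
  obtain ⟨i, hi⟩ := hn t hP (hne t ht) _ hQ fun h => hne x hx (conj_eq_one_iff.1 h)
  refine isConj_iff.2 ⟨g * n ^ i, ?_⟩
  calc g * n ^ i * t * (g * n ^ i)⁻¹ = g * (n ^ i * t * (n ^ i)⁻¹) * g⁻¹ := by group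
    _ = x := by rw [hi]; group

theorem card_centralizer_congr {H : Type*} [Group H] (e : S ≃* H) (t : S) :
    Nat.card ↥(centralizer ({t} : Set S)) = Nat.card ↥(centralizer ({e t} : Set H)) := by
  refine Nat.card_congr (e.toEquiv.subtypeEquiv fun x => ?_)
  show x ∈ centralizer ({t} : Set S) ↔ e x ∈ centralizer ({e t} : Set H)
  rw [mem_centralizer_singleton_iff, mem_centralizer_singleton_iff, ← map_mul, ← map_mul,
    e.injective.eq_iff]

/-- `PSL(2, 2ⁿ)`. -/
theorem bound_even {M : Ideal Cfsg.AlgInt} (hM : Cfsg.IsPModular 2 M) (P : Sylow 2 S)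
    (hP : 4 ∣ Nat.card P) {n : ℕ} (hn : 3 ≤ n) {F : Type} [Field F] [Fintype F]
    (hq : Fintype.card F = 2 ^ n) (e : S ≃* Matrix.ProjectiveSpecialLinearGroup (Fin 2) F)
    {t : S} (ht : orderOf t = 2) :
    ∃ r, Nat.card (OddB0 M S) ≤ r ∧
      (r - 1) * Nat.card (centralizer ({t} : Set S)) ^ 2 ≤ Nat.card S := by
  classical
  haveI : Fact (Nat.Prime 2) := ⟨Nat.prime_two⟩
  haveI : CharP F 2 := charP_of_card_eq_prime_pow hq
  set q := Fintype.card F with hqdef
  have heven : Even q := hq ▸ (Nat.even_pow.2 ⟨even_two, by omega⟩)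
  have hS : Nat.card S = q * (q - 1) * (q + 1) :=
    (Nat.card_congr e.toEquiv).trans (Linear.card_PSL_two_of_even heven)
  refine ⟨q, ?_, ?_⟩
  · obtain ⟨e'⟩ := SameOrderConj77.nonempty_psl_iso_sl (F := F)
    have hk : Nat.card (OddB0 M S) ≤ q + 1 := by
      refine le_trans (Nat.card_le_card_of_injective _ Subtype.val_injective) ?_
      rw [Complete.card_irr_eq_card_conjClasses]
      refine le_trans (Nat.card_le_card_of_surjective _
        (ConjClasses.map_surjective (f := (e.trans e').symm.toMonoidHom)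
          (e.trans e').symm.surjective)) ?_
      refine le_trans (ClassesSL.card_conjClasses_two F) ?_
      have : Nat.gcd 2 (q - 1) = 1 := by
        refine Nat.Coprime.gcd_eq_one ?_
        rw [Nat.coprime_two_left]
        exact Nat.Even.sub_odd Fintype.one_lt_card.le heven odd_one
      rw [← hqdef, this]
    have := four_dvd_card_oddB0 hM P hP
    obtain ⟨m, hm⟩ := heven
    omega
  · set C := centralizer ({t} : Set S)
    have hC2 : ∀ x ∈ C, x * x = 1 := fun x hx => e.injective (by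
      rw [map_mul, map_one]
      refine Walter.Known.psl_exponent_two (u := e t) (by rw [MulEquiv.orderOf_eq, ht]) ?_
      rw [← map_mul, ← map_mul, mem_centralizer_singleton_iff.1 hx])
    have hCp : IsPGroup 2 ↥C := fun x => ⟨1, Subtype.ext (by
      rw [pow_one, SubgroupClass.coe_pow, pow_two, hC2 x.1 x.2, OneMemClass.coe_one])⟩
    obtain ⟨R, hR⟩ := hCp.exists_le_sylow
    have hCq : Nat.card ↥C ≤ q := by
      obtain ⟨m, hm⟩ := IsPGroup.iff_card.1 R.isPGroup'
      have hd : 2 ^ m ∣ q * ((q - 1) * (q + 1)) := by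
        rw [← hm, ← mul_assoc, ← hS]; exact Subgroup.card_subgroup_dvd_card _
      have hco : Nat.Coprime (2 ^ m) ((q - 1) * (q + 1)) := by
        refine Nat.Coprime.pow_left m ?_
        rw [Nat.coprime_two_left]
        exact (Nat.Even.sub_odd Fintype.one_lt_card.le heven odd_one).mul heven.add_one
      refine (Subgroup.card_le_of_le hR).trans (hm ▸ Nat.le_of_dvd ?_ (hco.dvd_of_dvd_mul_right hd))
      exact Fintype.card_pos
    rw [hS]
    calc (q - 1) * Nat.card ↥C ^ 2 ≤ (q - 1) * (q * (q + 1)) :=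
          Nat.mul_le_mul_left _ (le_trans (Nat.pow_le_pow_left hCq 2) (by nlinarith))
      _ = _ := by ring

/-- `PSL(2, q)`, `q ≡ 3, 5 mod 8`. -/
theorem bound_odd {M : Ideal Cfsg.AlgInt} (hM : Cfsg.IsPModular 2 M) (hS : Walter.IsOddType S)
    {t : S} (ht : orderOf t = 2) :
    ∃ r, Nat.card (OddB0 M S) ≤ r ∧
      (r - 1) * Nat.card (centralizer ({t} : Set S)) ^ 2 ≤ Nat.card S := by
  classical
  haveI : Fact (Nat.Prime 2) := ⟨Nat.prime_two⟩
  have hfour := ((Walter.knownFacts BenderOne.propSplitFinal).2 S hS).four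
  obtain ⟨F, _, _, hq, h5, ⟨e⟩⟩ := hS
  set q := Fintype.card F with hqdef
  refine ⟨2 ^ 2, S4588.result 2 M hM ⟨1, ⟨0, by simp⟩, ?_⟩, ?_⟩
  · obtain ⟨R⟩ : Nonempty (Sylow 2 S) := inferInstance
    have h := R.card_eq_multiplicity
    rw [hfour R, show (4 : ℕ) = 2 ^ 2 by norm_num] at h
    refine le_trans ((Nat.factorization_le_iff_dvd Nat.card_pos.ne' Nat.card_pos.ne').2
      (Subgroup.card_subgroup_dvd_card _) 2) ?_
    rw [← Nat.pow_right_injective le_rfl h]
  have hC := JankoThompson.Psl.card_centralizer (F := F) (by omega) (y := e t)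
    (by rw [MulEquiv.orderOf_eq, ht])
  rw [← card_centralizer_congr e t] at hC
  set C := Nat.card ↥(centralizer ({t} : Set S))
  have hodd : Odd q := Nat.odd_iff.2 (by omega)
  have hS2 : 2 * Nat.card S = q * (q - 1) * (q + 1) := by
    rw [Nat.card_congr e.toEquiv]
    exact Linear.two_mul_card_PSL_two_of_odd hodd
  rw [← hqdef] at hC
  unfold JankoThompson.sgnQ at hC
  norm_num
  obtain ⟨a, ha⟩ : ∃ a, q = a + 1 := ⟨q - 1, by omega⟩
  rw [ha, Nat.add_sub_cancel] at hS2
  by_cases h3 : q % 4 = 3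
  · rw [if_pos h3, abs_of_nonneg (by positivity)] at hC
    have hC' : C = a + 2 := by omega
    have h10 : 10 ≤ a := by omega
    rw [hC']
    nlinarith
  · rw [if_neg h3, abs_of_nonpos (by omega)] at hC
    have hC' : C = a := by omega
    have h4 : 4 ≤ a := by omega
    rw [hC']
    nlinarith

/-- Janko–Ree type. -/
theorem bound_jr (hZ : Walter.PropNoField.{u}) (hO : Walter.PropOrder.{u}) [IsSimpleGroup S]
    {M : Ideal Cfsg.AlgInt} (hM : Cfsg.IsPModular 2 M)
    (hab : Walter.AbelianSylow S) (hJ : Walter.IsJR S) {t : S} (ht : orderOf t = 2) :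
    ∃ r, Nat.card (OddB0 M S) ≤ r ∧
      (r - 1) * Nat.card (centralizer ({t} : Set S)) ^ 2 ≤ Nat.card S := by
  classical
  haveI : Fact (Nat.Prime 2) := ⟨Nat.prime_two⟩
  obtain ⟨E, E₀, hE⟩ := hJ.centralizer t ht
  obtain rfl : E = E₀ := hZ S hJ t ht E E₀ hE
  obtain ⟨F, hF, hF', hq, h5, ⟨e⟩⟩ := hE.2.2.2.2.1
  obtain ⟨d⟩ := Walter.prod_equiv ht hE.1
  let φ := d.trans ((MulEquiv.refl _).prodCongr e)
  rcases hO S (fun P a b => by haveI := hab P; exact mul_comm' a b) F (by omega) t ht ⟨φ⟩ with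
    ⟨m, hm, hc, hcard⟩ | ⟨hq', hJ1⟩
  · refine ⟨17, ?_, ?_⟩
    · haveI := hM.2.1
      have hb := Blocks.Contrib.four_mul_card_le (p := 2) hM
        (Blocks.isPBlock_principalBlock (M := M) (G := S))
      have h3 : Cfsg.blockDefect 2 (Cfsg.principalBlock M S) ≤ 3 := by
        refine (Nat.sub_le _ _).trans (le_of_eq ?_)
        obtain ⟨R⟩ : Nonempty (Sylow 2 S) := inferInstance
        exact Nat.pow_right_injective le_rfl
          ((R.card_eq_multiplicity.symm.trans (hJ.card_sylow R)).trans (by norm_num : (8 : ℕ) = 2 ^ 3))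
      have hp : 2 ^ (2 * Cfsg.blockDefect 2 (Cfsg.principalBlock M S)) ≤ 2 ^ (2 * 3) :=
        Nat.pow_le_pow_right (by norm_num) (by omega)
      have hle : Nat.card (OddB0 M S) ≤ Nat.card (Cfsg.principalBlock M S) :=
        Nat.card_le_card_of_injective
          (fun χ => (⟨χ.1, χ.2.1⟩ : Cfsg.principalBlock M S))
          (fun a b h => Subtype.ext (congrArg (fun x : Cfsg.principalBlock M S => x.1) h))
      omega
    · set q := 3 ^ (2 * m + 1) with hqdef
      have h27 : 27 ≤ q := by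
        calc 27 = 3 ^ 3 := by norm_num
          _ ≤ q := Nat.pow_le_pow_right (by norm_num) (by omega)
      have hodd : Odd (Fintype.card F) := Nat.odd_iff.2 (by omega)
      have hC : Nat.card ↥(centralizer ({t} : Set S)) = q * (q - 1) * (q + 1) := by
        rw [Nat.card_congr φ.toEquiv, Nat.card_prod, Nat.card_eq_fintype_card,
          Fintype.card_multiplicative, ZMod.card, Linear.two_mul_card_PSL_two_of_odd hodd, hc]
      rw [hC, hcard]
      obtain ⟨a, ha⟩ : ∃ a, q = a + 1 := ⟨q - 1, by omega⟩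
      rw [ha, Nat.add_sub_cancel, show (17 : ℕ) - 1 = 16 from rfl]
      calc 16 * ((a + 1) * a * (a + 1 + 1)) ^ 2
          = 16 * ((a + 1) ^ 2 * (a * (a + 2)) ^ 2) := by ring
        _ ≤ 16 * ((a + 1) ^ 2 * ((a + 1) ^ 2) ^ 2) :=
            Nat.mul_le_mul_left _ (Nat.mul_le_mul_left _ (Nat.pow_le_pow_left (by nlinarith) 2))
        _ = (a + 1) ^ 6 * 16 := by ring
        _ ≤ (a + 1) ^ 6 * a := Nat.mul_le_mul_left _ (by omega)
        _ = (a + 1) ^ 3 * (a + 1) ^ 3 * a := by ring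
        _ ≤ _ := by gcongr; omega
  · have hc5 : Fintype.card F = 5 := by omega
    obtain ⟨e5⟩ := Linear.SmallIso.nonempty_psl_two_five hc5
    have eM : ↥(centralizer ({t} : Set S)) ≃* J1Order.Model :=
      φ.trans ((MulEquiv.refl _).prodCongr e5)
    refine ⟨8, card_odd_le_eight M ht eM, ?_⟩
    rw [J1Order.Structure.card_centralizer eM, hJ1.2]
    norm_num

theorem main4523 (hZ : Walter.PropNoField.{u}) (hO : Walter.PropOrder.{u}) [IsSimpleGroup S]
    (hna : ¬ IsMulCommutative S) (P : Sylow 2 S) (hP : IsMulCommutative P)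
    (M : Ideal Cfsg.AlgInt) (hM : Cfsg.IsPModular 2 M) (k : ℕ)
    (hk₁ : ∀ g : S, (∃ j : ℕ, orderOf g = 2 ^ j) → g ^ k = g)
    (hk₂ : ∀ g : S, Odd (orderOf g) → g ^ k = g⁻¹) :
    (∃ χ₁ : Cfsg.IrrCharacter S, Even (Cfsg.charDegree (χ₁ : S → ℂ)) ∧
      ∀ g : S, (χ₁ : S → ℂ) (g ^ k) = (χ₁ : S → ℂ) g) ∧
    ∃ χ₂ ∈ Cfsg.principalBlock M S, (χ₂ : S → ℂ) ≠ (fun _ => 1) ∧
      ∀ g : S, (χ₂ : S → ℂ) (g ^ k) = (χ₂ : S → ℂ) g := by
  haveI : Fact (Nat.Prime 2) := ⟨Nat.prime_two⟩
  have hab := abelianSylow_of_one P hP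
  have hKA : Walter.IsKnownA S :=
    Walter.propKnown BenderOne.propSplitFinal GorensteinWalter.propMainFinal S ‹_› hna hab
  have hL := (Walter.knownFacts BenderOne.propSplitFinal).1 S hKA
  have hfix : ∀ χ : Cfsg.IrrCharacter S, (∀ g, ((χ : S → ℂ) g).im = 0) →
      ∀ g : S, (χ : S → ℂ) (g ^ k) = (χ : S → ℂ) g := fun χ hreal g => by
    rw [pow_eq_inv hL.elementary k hk₁ hk₂, Basic.apply_inv (Basic.isCharacter_irr χ)]
    exact Complex.conj_eq_iff_im.2 (hreal g)
  have h4 : 4 ∣ Nat.card P := by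
    obtain ⟨i, hi⟩ := IsPGroup.iff_card.1 P.isPGroup'
    have := hL.four_le P
    rw [hi] at this ⊢
    have : 2 ≤ i := by
      by_contra hlt
      interval_cases i <;> norm_num at this
    exact pow_dvd_pow 2 this
  refine ⟨?_, ?_⟩
  · obtain ⟨t, ht⟩ := exists_prime_orderOf_dvd_card' (G := S) 2
      ((dvd_trans (by norm_num) h4).trans (Subgroup.card_subgroup_dvd_card (P : Subgroup S)))
    obtain ⟨r, hr, hle⟩ : ∃ r, Nat.card (OddB0 M S) ≤ r ∧
        (r - 1) * Nat.card (centralizer ({t} : Set S)) ^ 2 ≤ Nat.card S := by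
      rcases hKA with ⟨n, F, hF, hF', hn, hq, ⟨e⟩⟩ | hodd | hJ
      · exact bound_even hM P h4 hn hq e ht
      · exact bound_odd hM hodd ht
      · exact bound_jr hZ hO hM hab hJ ht
    obtain ⟨χ, hev, hreal⟩ := exists_real_even hM ht (fun x hx => conj_of_torus hL ht hx) hr hle
    exact ⟨χ, hev, hfix χ hreal⟩
  · obtain ⟨χ, hχ, hne, hreal⟩ := exists_real_principal hM P h4
    exact ⟨χ, hχ, fun h => hne (Subtype.ext h), hfix χ hreal⟩

end Cfsg.Agent.Lib.BC77.SigmaFixed
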